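import Mathlib

/-! Elements `a` of `GF(p^q)` with `a` and `2 - a` of norm one (Bender-Glauberman, Appendix C). -/

set_option autoImplicit false
set_option linter.style.haveILetI false

namespace Cfsg.Agent.Lib.NormOne.Basic

open Polynomial

/-! ### A symmetric set forces `p ≤ q` -/

theorem le_finrank {p : ℕ} [Fact p.Prime] {F : Type*} [Field F] [Finite F] [Algebra (ZMod p) F]
    (hinv : ∀ a : F, Algebra.norm (ZMod p) a = 1 → Algebra.norm (ZMod p) (2 - a) = 1 →
      Algebra.norm (ZMod p) a⁻¹ = 1 ∧ Algebra.norm (ZMod p) (2 - a⁻¹) = 1)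
    {a : F} (ha : Algebra.norm (ZMod p) a = 1) (ha2 : Algebra.norm (ZMod p) (2 - a) = 1)
    (ha1 : a ≠ 1) : p ≤ Module.finrank (ZMod p) F := by
  classical
  obtain ⟨b, hb⟩ : ∃ b, b = 1 - a := ⟨_, rfl⟩
  have hb0 : b ≠ 0 := hb ▸ sub_ne_zero.mpr (Ne.symm ha1)
  have key : ∀ k : ℕ, Algebra.norm (ZMod p) (1 + (k : F) * b) = 1 ∧
      Algebra.norm (ZMod p) ((1 + ((k : F) - 1) * b) / (1 + (k : F) * b)) = 1 ∧
      Algebra.norm (ZMod p) (2 - (1 + ((k : F) - 1) * b) / (1 + (k : F) * b)) = 1 := by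
    intro k
    induction k with
    | zero => simp [hb, ha, ha2]
    | succ k ih =>
      obtain ⟨h1, h2, h3⟩ := ih
      have hne : (1 + (k : F) * b) ≠ 0 := fun h => by simp [h] at h1
      have he : 2 - (1 + ((k : F) - 1) * b) / (1 + (k : F) * b) =
          (1 + ((k + 1 : ℕ) : F) * b) / (1 + (k : F) * b) := by
        rw [eq_div_iff hne, sub_mul, div_mul_cancel₀ _ hne]
        push_cast
        ring
      rw [he] at h3
      have hnext : Algebra.norm (ZMod p) (1 + ((k + 1 : ℕ) : F) * b) = 1 := by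
        rw [← div_mul_cancel₀ (1 + ((k + 1 : ℕ) : F) * b) hne, map_mul, h3, h1, one_mul]
      have h4 : Algebra.norm (ZMod p) (2 - (1 + ((k + 1 : ℕ) : F) * b) / (1 + (k : F) * b)) = 1 := by
        rw [← he, sub_sub_cancel]
        exact h2
      obtain ⟨h5, h6⟩ := hinv _ h3 h4
      rw [inv_div] at h5 h6
      refine ⟨hnext, ?_⟩
      rw [show (((k + 1 : ℕ) : F) - 1) = (k : F) by push_cast; ring]
      exact ⟨h5, h6⟩
  -- the polynomial `N(1 + X b) - 1` has `p` roots
  let P : F[X] := ∏ σ : Gal(F/ZMod p), (1 + C (σ b) * X)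
  have hdeg : P.natDegree = Module.finrank (ZMod p) F := by
    have h1 : ∀ σ : Gal(F/ZMod p), (1 + C (σ b) * X).natDegree = 1 := fun σ => by
      rw [add_comm, ← map_one C, natDegree_linear (by simpa using hb0)]
    rw [natDegree_prod _ _ fun σ _ => ?_, Finset.sum_congr rfl fun σ _ => h1 σ, Finset.sum_const,
      smul_eq_mul, mul_one, Finset.card_univ, ← Nat.card_eq_fintype_card,
      IsGalois.card_aut_eq_finrank]
    intro h
    have := h1 σ
    simp [h] at this
  have hroot : ∀ k : ZMod p, (P - 1).eval (algebraMap (ZMod p) F k) = 0 := by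
    intro k
    have hk : algebraMap (ZMod p) F k = (k.val : F) := by
      rw [← map_natCast (algebraMap (ZMod p) F), ZMod.natCast_zmod_val]
    rw [eval_sub, eval_prod, eval_one, sub_eq_zero, hk]
    have h := congrArg (algebraMap (ZMod p) F) (key k.val).1
    rw [Algebra.norm_eq_prod_automorphisms, map_one] at h
    rw [← h]
    refine Finset.prod_congr rfl fun σ _ => ?_
    rw [eval_add, eval_one, eval_mul, eval_C, eval_X, map_add, map_one, map_mul, map_natCast]
    exact congrArg _ (mul_comm _ _)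
  have hP1 : P - 1 ≠ 0 := by
    intro h
    rw [sub_eq_zero] at h
    have := hdeg
    rw [h, natDegree_one] at this
    exact (Module.finrank_pos (R := ZMod p) (M := F)).ne' this.symm
  have h2 : (P - 1).natDegree ≤ Module.finrank (ZMod p) F := by
    rw [← hdeg]
    exact (natDegree_sub_le _ _).trans (by simp)
  refine le_trans ?_ h2
  calc p = (Finset.univ.image (algebraMap (ZMod p) F)).card := by
        rw [Finset.card_image_of_injective _ (RingHom.injective _), Finset.card_univ, ZMod.card]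
    _ ≤ (P - 1).roots.toFinset.card := Finset.card_le_card fun x hx => by
        obtain ⟨k, -, rfl⟩ := Finset.mem_image.mp hx
        rw [Multiset.mem_toFinset, mem_roots hP1]
        exact hroot k
    _ ≤ Multiset.card (P - 1).roots := Multiset.toFinset_card_le _
    _ ≤ (P - 1).natDegree := card_roots' _

/-! ### The cubic case -/

/-- A root of a rootless cubic with constant term `-1` has norm one. -/
theorem norm_eq_one_of_cubic {K L : Type*} [Field K] [Field L] [Algebra K L] [FiniteDimensional K L]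
    (hdim : Module.finrank K L = 3) {f : K[X]} (hf : f.Monic) (hdeg : f.natDegree = 3)
    (h0 : f.coeff 0 = -1) (hroots : ∀ t : K, f.eval t ≠ 0) {a : L} (ha : aeval a f = 0) :
    Algebra.norm K a = 1 := by
  have hirr : Irreducible f := by
    rw [hf.irreducible_iff_roots_eq_zero_of_degree_le_three (by omega) (by omega)]
    refine Multiset.eq_zero_of_forall_notMem fun t ht => hroots t ?_
    exact (mem_roots hf.ne_zero).mp ht
  have hint : IsIntegral K a := IsIntegral.of_finite K a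
  have hmin : minpoly K a = f := (minpoly.eq_of_irreducible_of_monic hirr ha hf).symm
  have htop : Module.finrank (IntermediateField.adjoin K {a}) L = 1 := by
    have h := Module.finrank_mul_finrank K (IntermediateField.adjoin K {a}) L
    rw [IntermediateField.adjoin.finrank hint, hmin, hdeg, hdim] at h
    omega
  have hpb := IntermediateField.adjoin.powerBasis_gen hint
  rw [Algebra.norm_eq_norm_adjoin K a, htop, pow_one, ← hpb,
    Algebra.PowerBasis.norm_gen_eq_coeff_zero_minpoly, hpb, IntermediateField.minpoly_gen,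
    IntermediateField.adjoin.powerBasis_dim, hmin, hdeg, h0]
  ring

theorem exists_ne_one_cubic {p : ℕ} [hp : Fact p.Prime] (hp2 : p ≠ 2) :
    ∃ a : GaloisField p 3, a ≠ 1 ∧ Algebra.norm (ZMod p) a = 1 ∧
      Algebra.norm (ZMod p) (2 - a) = 1 := by
  classical
  have hdim : Module.finrank (ZMod p) (GaloisField p 3) = 3 := GaloisField.finrank p (by norm_num)
  have h2 : (2 : ZMod p) ≠ 0 := by
    intro h
    have h' : ((2 : ℕ) : ZMod p) = 0 := by exact_mod_cast h
    rw [ZMod.natCast_eq_zero_iff] at h'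
    exact hp2 ((Nat.prime_dvd_prime_iff_eq hp.out Nat.prime_two).mp h')
  obtain ⟨s, hs⟩ : ∃ s, s ∉ (({0, 2} : Finset (ZMod p))ᶜ).image
      (fun t => (t ^ 3 - 3 * t - 1) / (t * (t - 2))) := by
    by_contra h
    push Not at h
    have hcard := Finset.card_le_card (show Finset.univ ⊆ (({0, 2} : Finset (ZMod p))ᶜ).image
      (fun t => (t ^ 3 - 3 * t - 1) / (t * (t - 2))) from fun s _ => h s)
    have hle := hcard.trans Finset.card_image_le
    rw [Finset.card_compl, Finset.card_univ, Finset.card_pair h2.symm, ZMod.card] at hle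
    have := hp.out.two_le
    omega
  let f : ZMod p → (ZMod p)[X] := fun s => X ^ 3 - C s * X ^ 2 + C (2 * s - 3) * X - 1
  have hmonic : ∀ s, (f s).Monic := fun s => by simp only [f]; monicity!
  have hdeg : ∀ s, (f s).natDegree = 3 := fun s => by simp only [f]; compute_degree!
  have h0 : ∀ s, (f s).coeff 0 = -1 := fun s => by simp [f]
  have hroot : ∀ t, (f s).eval t ≠ 0 := by
    intro t ht
    simp only [f, eval_sub, eval_add, eval_pow, eval_mul, eval_C, eval_X, eval_one] at ht
    rcases eq_or_ne t 0 with rfl | ht0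
    · simp at ht
    rcases eq_or_ne t 2 with rfl | ht2
    · have : (1 : ZMod p) = 0 := by linear_combination ht
      exact one_ne_zero this
    refine hs (Finset.mem_image.mpr ⟨t, by simp [ht0, ht2], ?_⟩)
    rw [div_eq_iff (mul_ne_zero ht0 (sub_ne_zero.mpr ht2))]
    linear_combination ht
  have hroot' : ∀ t, (f (6 - s)).eval t ≠ 0 := by
    intro t ht
    refine hroot (2 - t) ?_
    simp only [f, eval_sub, eval_add, eval_pow, eval_mul, eval_C, eval_X, eval_one] at ht ⊢
    linear_combination -ht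
  have hirr : Irreducible (f s) := by
    rw [(hmonic s).irreducible_iff_roots_eq_zero_of_degree_le_three (by rw [hdeg]; norm_num)
      (by rw [hdeg])]
    refine Multiset.eq_zero_of_forall_notMem fun t ht => hroot t ?_
    exact (mem_roots (hmonic s).ne_zero).mp ht
  haveI := Fact.mk hirr
  haveI : FiniteDimensional (ZMod p) (AdjoinRoot (f s)) :=
    (AdjoinRoot.powerBasis hirr.ne_zero).finite
  obtain ⟨φ⟩ := FiniteField.nonempty_algHom_of_finrank_dvd (F := ZMod p) (K := AdjoinRoot (f s))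
    (L := GaloisField p 3)
    (by rw [hdim, (AdjoinRoot.powerBasis hirr.ne_zero).finrank, AdjoinRoot.powerBasis_dim, hdeg])
  obtain ⟨a, ha⟩ : ∃ a, a = φ (AdjoinRoot.root (f s)) := ⟨_, rfl⟩
  have hae : aeval a (f s) = 0 := by
    rw [ha, aeval_algHom_apply, AdjoinRoot.aeval_eq, AdjoinRoot.mk_self, map_zero]
  refine ⟨a, ?_, norm_eq_one_of_cubic hdim (hmonic s) (hdeg s) (h0 s) hroot hae, ?_⟩
  · intro h1
    refine hroot 1 ((algebraMap (ZMod p) (GaloisField p 3)).injective ?_)
    rw [map_zero, ← hae, h1, ← aeval_algebraMap_apply_eq_algebraMap_eval, map_one]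
  · refine norm_eq_one_of_cubic hdim (hmonic (6 - s)) (hdeg _) (h0 _) hroot' ?_
    simp only [f, map_sub, map_add, map_pow, map_mul, aeval_C, aeval_X, map_one, map_ofNat] at hae ⊢
    linear_combination -hae

/-! ### Degree at least five -/

section Char

variable {p : ℕ} [hp : Fact p.Prime] {F : Type*} [Field F] [Finite F] [Algebra (ZMod p) F]

local notation "Nm" => Algebra.norm (ZMod p) (S := F)

/-- The sum of the character values over norm-one elements. -/
noncomputable def normSum (ψ : AddChar F ℂ) (b : F) : ℂ :=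
  letI := Fintype.ofFinite F
  letI := Classical.decEq F
  ∑ u ∈ Finset.univ.filter (fun u : F => Nm u = 1), ψ (b * u)

theorem normSum_mul (ψ : AddChar F ℂ) (b : F) {w : F} (hw : Nm w = 1) :
    normSum (p := p) ψ (b * w) = normSum (p := p) ψ b := by
  classical
  letI := Fintype.ofFinite F
  have hw0 : w ≠ 0 := fun h => by simp [h] at hw
  simp only [normSum]
  refine Finset.sum_nbij' (fun u => w * u) (fun u => w⁻¹ * u) ?_ ?_ ?_ ?_ ?_
  · intro u hu
    simp only [Finset.mem_filter, Finset.mem_univ, true_and, Finset.mem_coe] at hu ⊢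
    rw [map_mul, hw, hu, one_mul]
  · intro u hu
    simp only [Finset.mem_filter, Finset.mem_univ, true_and, Finset.mem_coe] at hu ⊢
    have h : Nm w⁻¹ = 1 := by
      have := congrArg Nm (inv_mul_cancel₀ hw0)
      rwa [map_mul, map_one, hw, mul_one] at this
    rw [map_mul, h, hu, one_mul]
  · intro u _; exact inv_mul_cancel_left₀ hw0 u
  · intro u _; exact mul_inv_cancel_left₀ hw0 u
  · intro u _; rw [mul_assoc]

theorem exists_ne_one_large (hcop : (Module.finrank (ZMod p) F).Coprime (p - 1)) (hp2 : p ≠ 2)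
    (h5 : 5 ≤ Module.finrank (ZMod p) F) :
    ∃ a : F, a ≠ 1 ∧ Algebra.norm (ZMod p) a = 1 ∧ Algebra.norm (ZMod p) (2 - a) = 1 := by
  classical
  letI := Fintype.ofFinite F
  obtain ⟨q, hq⟩ : ∃ q, q = Module.finrank (ZMod p) F := ⟨_, rfl⟩
  rw [← hq] at hcop h5
  have hcard : Fintype.card F = p ^ q := by
    rw [Module.card_eq_pow_finrank (K := ZMod p), ZMod.card, hq]
  -- a primitive character
  obtain ⟨ψ, hψ⟩ : ∃ ψ : AddChar F ℂ, ψ.IsPrimitive := by
    refine ⟨(@ZMod.stdAddChar p _).compAddMonoidHom (Algebra.trace (ZMod p) F).toAddMonoidHom,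
      AddChar.IsPrimitive.of_ne_one (AddChar.ne_one_iff.mpr ?_)⟩
    obtain ⟨x, hx⟩ := Algebra.trace_surjective (ZMod p) F 1
    refine ⟨x, fun h => ?_⟩
    rw [AddChar.compAddMonoidHom_apply, LinearMap.toAddMonoidHom_coe, hx,
      ← AddChar.map_zero_eq_one (@ZMod.stdAddChar p _)] at h
    exact one_ne_zero (ZMod.injective_stdAddChar h)
  let U : Finset F := Finset.univ.filter (fun u => Nm u = 1)
  have hmem : ∀ u, u ∈ U ↔ Nm u = 1 := fun u => by simp [U]
  let S : F → ℂ := normSum (p := p) ψ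
  have hS : ∀ b, S b = ∑ u ∈ U, ψ (b * u) := fun b => rfl
  let T : Finset (ZMod p) := Finset.univ.erase 0
  have hT : ∀ c, c ∈ T ↔ c ≠ 0 := fun c => by simp [T]
  have hTcard : T.card = p - 1 := by simp [T, ZMod.card]
  have hNc : ∀ c : ZMod p, Nm (algebraMap (ZMod p) F c) = c ^ q := fun c => by
    rw [Algebra.norm_algebraMap, hq]
  have hpow : ∀ c d : ZMod p, c ≠ 0 → d ≠ 0 → c ^ q = d ^ q → c = d := by
    intro c d hc hd h
    have hcopU : (Nat.card (ZMod p)ˣ).Coprime q := by
      rw [Nat.card_eq_fintype_card, ZMod.card_units_eq_totient, Nat.totient_prime hp.out]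
      exact hcop.symm
    have hu := (powCoprime hcopU).injective (a₁ := Units.mk0 c hc) (a₂ := Units.mk0 d hd) (Units.ext h)
    exact congrArg Units.val hu
  have hroot : ∀ k : ZMod p, k ≠ 0 → ∃ c : ZMod p, c ≠ 0 ∧ c ^ q = k := by
    intro k hk
    have hcopU : (Nat.card (ZMod p)ˣ).Coprime q := by
      rw [Nat.card_eq_fintype_card, ZMod.card_units_eq_totient, Nat.totient_prime hp.out]
      exact hcop.symm
    obtain ⟨c, hc⟩ := (powCoprime hcopU).surjective (Units.mk0 k hk)
    exact ⟨c, c.ne_zero, congrArg Units.val hc⟩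
  -- sums over `F`
  have hsum : ∀ g : F → ℂ, ∑ b, g b = g 0 + ∑ c ∈ T, ∑ w ∈ U, g (algebraMap (ZMod p) F c * w) := by
    intro g
    rw [← Finset.add_sum_erase Finset.univ g (Finset.mem_univ 0), ← Finset.sum_product']
    congr 1
    symm
    refine Finset.sum_bij (fun x _ => algebraMap (ZMod p) F x.1 * x.2) ?_ ?_ ?_ (fun _ _ => rfl)
    · rintro ⟨c, w⟩ hx
      obtain ⟨hc, hw⟩ := Finset.mem_product.mp hx
      refine Finset.mem_erase.mpr ⟨mul_ne_zero ?_ ?_, Finset.mem_univ _⟩
      · simpa using (hT c).mp hc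
      · intro h
        have h1 := (hmem w).mp hw
        simp only [] at h
        simp [h] at h1
    · rintro ⟨c, w⟩ hx ⟨d, v⟩ hy he
      obtain ⟨hc, hw⟩ := Finset.mem_product.mp hx
      obtain ⟨hd, hv⟩ := Finset.mem_product.mp hy
      have hn := congrArg Nm he
      simp only [map_mul, hNc, (hmem w).mp hw, (hmem v).mp hv, mul_one] at hn
      obtain rfl := hpow c d ((hT c).mp hc) ((hT d).mp hd) hn
      have hc0 : algebraMap (ZMod p) F c ≠ 0 := by simpa using (hT c).mp hc
      exact Prod.ext rfl (mul_left_cancel₀ hc0 he)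
    · intro b hb
      obtain ⟨hb0, -⟩ := Finset.mem_erase.mp hb
      obtain ⟨c, hc, hcq⟩ := hroot (Nm b) (mt Algebra.norm_eq_zero_iff.mp hb0)
      have hc0 : algebraMap (ZMod p) F c ≠ 0 := by simpa using hc
      refine ⟨(c, b / algebraMap (ZMod p) F c), Finset.mem_product.mpr ⟨(hT c).mpr hc,
        (hmem _).mpr ?_⟩, mul_div_cancel₀ b hc0⟩
      have h := congrArg Nm (mul_div_cancel₀ b hc0)
      rw [map_mul, hNc, hcq] at h
      exact mul_eq_left₀ (mt Algebra.norm_eq_zero_iff.mp hb0) |>.mp h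
  have hUcard : (p - 1) * U.card + 1 = p ^ q := by
    have h := hsum (fun _ => 1)
    simp only [Finset.sum_const, Finset.card_univ, nsmul_eq_mul, mul_one, hTcard, hcard] at h
    exact_mod_cast (h.trans (add_comm _ _)).symm
  have hS0 : S 0 = (U.card : ℂ) := by simp [hS]
  have hSw : ∀ b, ∀ w ∈ U, S (b * w) = S b := fun b w hw => normSum_mul ψ b ((hmem w).mp hw)
  -- Parseval
  have hpar : (U.card : ℂ) ^ 2 + (U.card : ℂ) * ∑ c ∈ T, (‖S (algebraMap (ZMod p) F c)‖ : ℂ) ^ 2 =
      (p : ℂ) ^ q * U.card := by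
    have h1 : ∑ b, (‖S b‖ : ℂ) ^ 2 = (p : ℂ) ^ q * U.card := by
      have h2 : ∀ b, (‖S b‖ : ℂ) ^ 2 = ∑ u ∈ U, ∑ v ∈ U, ψ (b * (u - v)) := by
        intro b
        rw [← Complex.mul_conj', hS, map_sum, Finset.sum_mul_sum]
        refine Finset.sum_congr rfl fun u _ => Finset.sum_congr rfl fun v _ => ?_
        rw [← AddChar.map_neg_eq_conj, ← AddChar.map_add_eq_mul, mul_sub, sub_eq_add_neg]
      simp only [h2]
      rw [Finset.sum_comm]
      have h3 : ∀ u ∈ U, ∑ b, ∑ v ∈ U, ψ (b * (u - v)) = (p : ℂ) ^ q := by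
        intro u hu
        rw [Finset.sum_comm, Finset.sum_eq_single u]
        · rw [AddChar.sum_mulShift _ hψ, if_pos (sub_self u), hcard, Nat.cast_pow]
        · intro v _ hv
          rw [AddChar.sum_mulShift _ hψ, if_neg (sub_ne_zero.mpr (Ne.symm hv)), Nat.cast_zero]
        · exact fun h => absurd hu h
      rw [Finset.sum_congr rfl h3, Finset.sum_const, nsmul_eq_mul, mul_comm]
    rw [← h1, hsum (fun b => (‖S b‖ : ℂ) ^ 2), hS0, Finset.mul_sum]
    congr 1
    · simp
    · refine Finset.sum_congr rfl fun c _ => ?_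
      rw [Finset.sum_congr rfl (fun w hw => by rw [hSw _ w hw]), Finset.sum_const, nsmul_eq_mul]
  have hparR : ∑ c ∈ T, ‖S (algebraMap (ZMod p) F c)‖ ^ 2 = (p : ℝ) ^ q - U.card := by
    have hpar' : (U.card : ℝ) ^ 2 + (U.card : ℝ) * ∑ c ∈ T, ‖S (algebraMap (ZMod p) F c)‖ ^ 2 =
        (p : ℝ) ^ q * U.card := by exact_mod_cast hpar
    have hU0 : (U.card : ℝ) ≠ 0 := by
      rw [Nat.cast_ne_zero]
      exact Finset.card_ne_zero.mpr ⟨1, (hmem 1).mpr (map_one _)⟩
    have := mul_left_cancel₀ hU0 (show (U.card : ℝ) * (∑ c ∈ T, ‖S (algebraMap (ZMod p) F c)‖ ^ 2) =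
      (U.card : ℝ) * ((p : ℝ) ^ q - U.card) by linarith [hpar'])
    exact this
  let R : ℝ := Real.sqrt ((p : ℝ) ^ q)
  have hbound : ∀ c ∈ T, ‖S (algebraMap (ZMod p) F c)‖ ≤ R := by
    intro c hc
    refine Real.le_sqrt_of_sq_le ?_
    calc ‖S (algebraMap (ZMod p) F c)‖ ^ 2 ≤ ∑ c ∈ T, ‖S (algebraMap (ZMod p) F c)‖ ^ 2 :=
          Finset.single_le_sum (f := fun c => ‖S (algebraMap (ZMod p) F c)‖ ^ 2)
            (fun _ _ => sq_nonneg _) hc
      _ ≤ (p : ℝ) ^ q := by rw [hparR]; linarith [(Nat.cast_nonneg U.card : (0 : ℝ) ≤ U.card)]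
  -- the number of solutions
  let A : Finset F := U.filter (fun u => 2 - u ∈ U)
  have hA : (p : ℂ) ^ q * A.card = (U.card : ℂ) ^ 2 + ∑ c ∈ T, S (algebraMap (ZMod p) F c) ^ 2 *
      S (algebraMap (ZMod p) F (-2 * c)) := by
    have h1 : ∀ u v : F, (∑ b, ψ (b * (u + v - 2))) = if v = 2 - u then (p : ℂ) ^ q else 0 := by
      intro u v
      rw [AddChar.sum_mulShift _ hψ]
      by_cases h : v = 2 - u
      · rw [if_pos h, if_pos (by rw [h]; ring), hcard, Nat.cast_pow]
      · rw [if_neg h, if_neg (fun h' => h (by linear_combination h')), Nat.cast_zero]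
    have h2 : ∑ b, S b ^ 2 * ψ (-(b * 2)) = (p : ℂ) ^ q * A.card := by
      have h3 : ∀ b, S b ^ 2 * ψ (-(b * 2)) = ∑ u ∈ U, ∑ v ∈ U, ψ (b * (u + v - 2)) := by
        intro b
        rw [hS, sq, Finset.sum_mul_sum, Finset.sum_mul]
        refine Finset.sum_congr rfl fun u _ => ?_
        rw [Finset.sum_mul]
        refine Finset.sum_congr rfl fun v _ => ?_
        rw [← AddChar.map_add_eq_mul, ← AddChar.map_add_eq_mul]
        congr 1
        ring
      simp only [h3]
      rw [Finset.sum_comm, Finset.sum_congr rfl (fun u _ => Finset.sum_comm)]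
      simp only [h1, Finset.sum_ite_eq']
      rw [← Finset.sum_filter, Finset.sum_const, nsmul_eq_mul, mul_comm]
    rw [← h2, hsum (fun b => S b ^ 2 * ψ (-(b * 2))), hS0, zero_mul, neg_zero,
      AddChar.map_zero_eq_one, mul_one]
    congr 1
    refine Finset.sum_congr rfl fun c _ => ?_
    rw [Finset.sum_congr rfl (fun w hw => by rw [hSw _ w hw]), ← Finset.mul_sum, hS (algebraMap _ _ (-2 * c))]
    congr 1
    refine Finset.sum_congr rfl fun w _ => ?_
    congr 1
    rw [map_mul, map_neg, map_ofNat]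
    ring
  have h2T : ∀ c ∈ T, -2 * c ∈ T := by
    intro c hc
    refine (hT _).mpr (mul_ne_zero (neg_ne_zero.mpr ?_) ((hT c).mp hc))
    intro h
    have h' : ((2 : ℕ) : ZMod p) = 0 := by exact_mod_cast h
    rw [ZMod.natCast_eq_zero_iff] at h'
    exact hp2 ((Nat.prime_dvd_prime_iff_eq hp.out Nat.prime_two).mp h')
  have hE : (U.card : ℝ) ^ 2 - (p : ℝ) ^ q * R ≤ (p : ℝ) ^ q * A.card := by
    obtain ⟨E, hE⟩ : ∃ E, E = ∑ c ∈ T, S (algebraMap (ZMod p) F c) ^ 2 *
      S (algebraMap (ZMod p) F (-2 * c)) := ⟨_, rfl⟩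
    rw [← hE] at hA
    have hEn : ‖E‖ ≤ (p : ℝ) ^ q * R := by
      rw [hE]
      refine (norm_sum_le _ _).trans ?_
      calc ∑ c ∈ T, ‖S (algebraMap (ZMod p) F c) ^ 2 * S (algebraMap (ZMod p) F (-2 * c))‖
          ≤ ∑ c ∈ T, ‖S (algebraMap (ZMod p) F c)‖ ^ 2 * R := Finset.sum_le_sum fun c hc => by
            rw [norm_mul, norm_pow]
            exact mul_le_mul_of_nonneg_left (hbound _ (h2T c hc)) (sq_nonneg _)
        _ = ((p : ℝ) ^ q - U.card) * R := by rw [← Finset.sum_mul, hparR]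
        _ ≤ (p : ℝ) ^ q * R := mul_le_mul_of_nonneg_right
          (by linarith [(Nat.cast_nonneg U.card : (0 : ℝ) ≤ U.card)]) (Real.sqrt_nonneg _)
    have hre := congrArg Complex.re hA
    simp only [Complex.add_re, ← Nat.cast_pow, ← Nat.cast_mul, Complex.natCast_re] at hre
    have := neg_le_of_abs_le ((Complex.abs_re_le_norm E).trans hEn)
    push_cast at hre
    linarith
  by_contra hno
  push Not at hno
  have hA1 : (A.card : ℝ) ≤ 1 := by
    rw [Nat.cast_le_one]
    refine Finset.card_le_one.mpr fun x hx y hy => ?_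
    have key : ∀ z ∈ A, z = 1 := fun z hz => by
      obtain ⟨h1, h2⟩ := Finset.mem_filter.mp hz
      by_contra hz1
      exact hno z hz1 ((hmem z).mp h1) ((hmem _).mp h2)
    rw [key x hx, key y hy]
  have hp3 : (3 : ℝ) ≤ p := by
    have := hp.out.two_le
    exact_mod_cast (show 3 ≤ p by omega)
  have hUR : (p : ℝ) ^ (q - 1) ≤ U.card := by
    have h : p ^ (q - 1) ≤ U.card := by
      by_contra h
      push Not at h
      have h3 : 3 ≤ p := by exact_mod_cast hp3
      have he : p ^ q = p ^ (q - 1) * p := by rw [← pow_succ]; congr 1; omega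
      obtain ⟨r, hr⟩ : ∃ r, p = r + 1 := ⟨p - 1, by omega⟩
      rw [he, hr, Nat.add_sub_cancel] at hUcard
      rw [hr] at h
      have h1 : r * (U.card + 1) ≤ r * (r + 1) ^ (q - 1) := Nat.mul_le_mul_left r h
      nlinarith [Nat.one_le_pow (q - 1) (r + 1) (by omega)]
    exact_mod_cast h
  have hR : R * R = (p : ℝ) ^ q := Real.mul_self_sqrt (by positivity)
  have hR0 : 0 ≤ R := Real.sqrt_nonneg _
  have hX : (p : ℝ) ^ 5 ≤ (p : ℝ) ^ q := pow_le_pow_right₀ (by linarith) h5
  have hsq : ((p : ℝ) ^ (q - 1)) ^ 2 * (p : ℝ) ^ 2 = (p : ℝ) ^ q * (p : ℝ) ^ q := by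
    rw [← pow_mul, ← pow_add, ← pow_add]
    congr 1
    omega
  have hUsq : ((p : ℝ) ^ (q - 1)) ^ 2 ≤ (U.card : ℝ) ^ 2 := pow_le_pow_left₀ (by positivity) hUR 2
  have hmain : (p : ℝ) ^ q ≤ (p : ℝ) ^ 2 * (R + 1) := by
    have hpos : (0 : ℝ) < (p : ℝ) ^ q := by positivity
    refine le_of_mul_le_mul_left ?_ hpos
    have h := mul_le_mul_of_nonneg_right (hUsq.trans (show (U.card : ℝ) ^ 2 ≤ (p : ℝ) ^ q * (R + 1) by
      nlinarith [mul_le_mul_of_nonneg_left hA1 hpos.le])) (sq_nonneg (p : ℝ))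
    rw [hsq] at h
    linarith
  -- `R² = p^q ≥ p^5` contradicts `R² ≤ p² (R + 1)`
  have hR2 : (p : ℝ) ^ 2 * 1.7 ≤ R := by
    nlinarith [mul_le_mul_of_nonneg_left hp3 (show (0 : ℝ) ≤ (p : ℝ) ^ 4 by positivity), hR, hX]
  nlinarith [mul_le_mul_of_nonneg_left hR2 hR0, mul_le_mul hp3 hp3 (by norm_num) (by linarith)]

end Char

end Cfsg.Agent.Lib.NormOne.Basic
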